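import Mathlib

set_option autoImplicit false
open TensorProduct

namespace Groth.Agent.DiagIdealLib

variable {k A : Type*} [CommRing k] [CommRing A] [Algebra k A]

/-- `a ⊗ b ↦ a db` as a `k`-linear map. -/
noncomputable def theta (k A : Type*) [CommRing k] [CommRing A] [Algebra k A] :
    A ⊗[k] A →ₗ[k] Ω[A⁄k] :=
  (KaehlerDifferential.D k A).tensorProductTo.restrictScalars k

theorem theta_tmul (a b : A) : theta k A (a ⊗ₜ[k] b) = a • KaehlerDifferential.D k A b :=
  Derivation.tensorProductTo_tmul _ a b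

theorem mem_ideal_iff (x : A ⊗[k] A) :
    x ∈ KaehlerDifferential.ideal k A ↔ LinearMap.mul' k A x = 0 := by
  have : Algebra.TensorProduct.lmul' k (S := A) x = LinearMap.mul' k A x := rfl
  rw [← this]; exact RingHom.mem_ker

theorem mem_sq_of_theta_eq_zero {x : A ⊗[k] A} (hm : LinearMap.mul' k A x = 0)
    (h : theta k A x = 0) : x ∈ KaehlerDifferential.ideal k A ^ 2 := by
  have hx := (mem_ideal_iff x).mpr hm
  exact (Ideal.toCotangent_eq_zero _ ⟨x, hx⟩).mp
    ((KaehlerDifferential.D_tensorProductTo ⟨x, hx⟩).symm.trans h)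

theorem exists_mem_ideal_theta (ω : Ω[A⁄k]) :
    ∃ x : A ⊗[k] A, LinearMap.mul' k A x = 0 ∧ theta k A x = ω := by
  obtain ⟨⟨x, hx⟩, h⟩ := KaehlerDifferential.fromIdeal_surjective k A ω
  exact ⟨x, (mem_ideal_iff x).mp hx, (KaehlerDifferential.D_tensorProductTo ⟨x, hx⟩).trans h⟩

/-- The square of the diagonal ideal lies in any submodule containing the elementary products. -/
theorem sq_mem_submodule (W : Submodule k (A ⊗[k] A))
    (hW : ∀ a u v : A,
      a ⊗ₜ[k] (u * v) - (a * u) ⊗ₜ[k] v - (a * v) ⊗ₜ[k] u + (a * u * v) ⊗ₜ[k] 1 ∈ W)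
    {x : A ⊗[k] A} (hx : x ∈ KaehlerDifferential.ideal k A ^ 2) : x ∈ W := by
  let P : A ⊗[k] A →ₗ[k] A ⊗[k] A :=
    LinearMap.id - (TensorProduct.mk k A A).flip 1 ∘ₗ LinearMap.mul' k A
  have hP : ∀ x y : A ⊗[k] A, P x * P y ∈ W := by
    intro x y
    induction x using TensorProduct.induction_on with
    | zero => simp
    | add x x' h h' => rw [map_add, add_mul]; exact W.add_mem h h'
    | tmul a u =>
      induction y using TensorProduct.induction_on with
      | zero => simp
      | add y y' h h' => rw [map_add, mul_add]; exact W.add_mem h h'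
      | tmul c v =>
        convert hW (a * c) u v using 1
        simp only [P, LinearMap.sub_apply, LinearMap.id_apply, LinearMap.comp_apply,
          LinearMap.mul'_apply, LinearMap.flip_apply, TensorProduct.mk_apply, sub_mul, mul_sub,
          Algebra.TensorProduct.tmul_mul_tmul, one_mul, mul_one]
        ring_nf
  have hfix : ∀ x : A ⊗[k] A, x ∈ KaehlerDifferential.ideal k A → P x = x := by
    intro x hx
    simp [P, (mem_ideal_iff x).mp hx]
  rw [sq] at hx
  refine Submodule.mul_induction_on hx (fun u hu v hv => ?_) fun u v hu hv => W.add_mem hu hv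
  rw [← hfix u hu, ← hfix v hv]
  exact hP u v

end Groth.Agent.DiagIdealLib
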